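import Cfsg.Agent.H41.Fi24Rec.Local
import Cfsg.Agent.H41.LFi.Pair

/-!
The hypotheses of the Fi24 prime row give the setup, the pair property and the local facts.
-/

set_option autoImplicit false

namespace Cfsg.Agent.H92.Fi24Rec

open Cfsg Cfsg.Agent.H41.LFi

universe u

/-- The row hypotheses are those of large Fischer type. -/
theorem large_at {G : Type u} [Group G] [Finite G] (z : G) (hz : orderOf z = 2)
    (Q N M : Subgroup (Subgroup.centralizer ({z} : Set G))) [Q.Normal] [N.Normal] [M.Normal]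
    (hF : Cfsg.generalizedFittingSubgroup (Subgroup.centralizer ({z} : Set G)) = Q)
    (hQ : Cfsg.IsExtraspecial 2 Q) (hcard : Nat.card Q = 2 ^ 13) (hQN : Q ≤ N) (hNM : N ≤ M)
    (hN : Nat.card N = 3 * Nat.card Q) (K : Type) [Field K] [Fintype K] (hK : Fintype.card K = 9)
    (e : M ⧸ N.subgroupOf M ≃* Cfsg.PSU 4 K 3) (hM : M.index = 2)
    (hnwc : ∃ g : G, (∃ hq : g * z * g⁻¹ ∈ Subgroup.centralizer ({z} : Set G),
      (⟨g * z * g⁻¹, hq⟩ : Subgroup.centralizer ({z} : Set G)) ∈ Q) ∧ g * z * g⁻¹ ≠ z) :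
    Cfsg.IsOfLargeFischerTypeAt z Q :=
  ⟨⟨hz, hF, hQ, hcard, hnwc⟩, N, M, inferInstance, inferInstance, hQN, hNM, hN,
    ⟨K, inferInstance, inferInstance, hK, ⟨e⟩⟩, hM⟩

/-- The setup and the pair property from the row hypotheses. -/
theorem exists_setup {G : Type u} [Group G] [Finite G] (z : G) (hz : orderOf z = 2)
    (Q N M : Subgroup (Subgroup.centralizer ({z} : Set G))) [Q.Normal] [N.Normal] [M.Normal]
    (hF : Cfsg.generalizedFittingSubgroup (Subgroup.centralizer ({z} : Set G)) = Q)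
    (hQ : Cfsg.IsExtraspecial 2 Q) (hcard : Nat.card Q = 2 ^ 13) (hQN : Q ≤ N) (hNM : N ≤ M)
    (hN : Nat.card N = 3 * Nat.card Q) (K : Type) [Field K] [Fintype K] (hK : Fintype.card K = 9)
    (e : M ⧸ N.subgroupOf M ≃* Cfsg.PSU 4 K 3) (hM : M.index = 2)
    (hnwc : ∃ g : G, (∃ hq : g * z * g⁻¹ ∈ Subgroup.centralizer ({z} : Set G),
      (⟨g * z * g⁻¹, hq⟩ : Subgroup.centralizer ({z} : Set G)) ∈ Q) ∧ g * z * g⁻¹ ≠ z) :
    ∃ Qg : Subgroup G, Nonempty (LSetup z Qg) ∧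
      ∀ g : G, g * z * g⁻¹ ∈ Qg → g * z * g⁻¹ ≠ z → H92.PairSetting Qg z g := by
  have h := large_at z hz Q N M hF hQ hcard hQN hNM hN K hK e hM hnwc
  exact ⟨_, setup_of Q h, fun g hs hne => pair_of Q h hs hne⟩

/-- The local facts from the row hypotheses. -/
theorem exists_facts {G : Type u} [Group G] [Finite G] (z : G) (hz : orderOf z = 2)
    (Q N M : Subgroup (Subgroup.centralizer ({z} : Set G))) [Q.Normal] [N.Normal] [M.Normal]
    (hF : Cfsg.generalizedFittingSubgroup (Subgroup.centralizer ({z} : Set G)) = Q)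
    (hQ : Cfsg.IsExtraspecial 2 Q) (hcard : Nat.card Q = 2 ^ 13) (hQN : Q ≤ N) (hNM : N ≤ M)
    (hN : Nat.card N = 3 * Nat.card Q) (K : Type) [Field K] [Fintype K] (hK : Fintype.card K = 9)
    (e : M ⧸ N.subgroupOf M ≃* Cfsg.PSU 4 K 3) (hM : M.index = 2)
    (hnwc : ∃ g : G, (∃ hq : g * z * g⁻¹ ∈ Subgroup.centralizer ({z} : Set G),
      (⟨g * z * g⁻¹, hq⟩ : Subgroup.centralizer ({z} : Set G)) ∈ Q) ∧ g * z * g⁻¹ ≠ z) :
    ∃ (Qg : Subgroup G) (S : LSetup z Qg)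
      (_ : ∀ g : G, g * z * g⁻¹ ∈ Qg → g * z * g⁻¹ ≠ z → H92.PairSetting Qg z g)
      (t f : G) (K₀ : Subgroup G),
        H41.Fi24Rec.Facts t f K₀ ∧ H18.LFiFi22.Hyp S t f ∧ ¬ IsConj z t := by
  obtain ⟨Qg, ⟨S⟩, hp⟩ := exists_setup z hz Q N M hF hQ hcard hQN hNM hN K hK e hM hnwc
  obtain ⟨t, f, K₀, h1, h2, h3⟩ := H41.Fi24Rec.exists_facts S hp
  exact ⟨Qg, S, hp, t, f, K₀, h1, h2, h3⟩

end Cfsg.Agent.H92.Fi24Rec
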